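import Groth.Agent.GeomConnExt.Irred
import Mathlib.FieldTheory.IsAlgClosed.AlgebraicClosure
import Mathlib.AlgebraicGeometry.Geometrically.Connected

/-!
# Components of base changes along towers of fields
-/

set_option autoImplicit false
set_option backward.isDefEq.respectTransparency false
set_option backward.isDefEq.respectTransparency.types false

universe u

open CategoryTheory CategoryTheory.Limits AlgebraicGeometry TensorProduct

namespace Groth.Agent.GeomConnExt

variable {k : Type u} [Field k] (E L : Type u) [Field E] [Algebra k E] [Field L] [Algebra k L]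
  [Algebra E L] [IsScalarTower k E L] {X : Scheme.{u}} (f : X ⟶ Spec (CommRingCat.of k))

theorem specMap_tower :
    Spec.map (CommRingCat.ofHom (algebraMap E L)) ≫ Spec.map (CommRingCat.ofHom (algebraMap k E)) =
      Spec.map (CommRingCat.ofHom (algebraMap k L)) := by
  rw [← Spec.map_comp, IsScalarTower.algebraMap_eq k E L]
  rfl

/-- `X_L ≅ (X_E)_L` -/
noncomputable def towerIso : FBase.bc (FBase.bcStr f E) L ≅ FBase.bc f L :=
  pullbackLeftPullbackSndIso f (Spec.map (CommRingCat.ofHom (algebraMap k E)))
      (Spec.map (CommRingCat.ofHom (algebraMap E L))) ≪≫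
    pullback.congrHom rfl (specMap_tower E L)

/-- the projection `X_L → X_E` -/
noncomputable def towerMap : FBase.bc f L ⟶ FBase.bc f E :=
  (towerIso E L f).inv ≫ FBase.bcπ (FBase.bcStr f E) L

theorem towerMap_fst : towerMap E L f ≫ FBase.bcπ f E = FBase.bcπ f L := by
  rw [towerMap, Category.assoc, Iso.inv_comp_eq]
  simp [towerIso, FBase.bcπ, FBase.bc, FBase.bcStr]

theorem surjective_bcπ (E : Type u) [Field E] [Algebra k E] : Function.Surjective (FBase.bcπ f E) := fun x => by
  have : x ∈ Set.range (pullback.fst f (Spec.map (CommRingCat.ofHom (algebraMap k E)))) := by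
    rw [Scheme.Pullback.range_fst]
    exact GeomConn.surjective_specMap_field _
  exact this

theorem surjective_towerMap : Function.Surjective (towerMap E L f) :=
  (surjective_bcπ (FBase.bcStr f E) L).comp (towerIso E L f).inv.surjective

theorem isOpenMap_towerMap : IsOpenMap (towerMap E L f) :=
  (GeomConn.isOpenMap_fst (FBase.bcStr f E) : IsOpenMap (FBase.bcπ (FBase.bcStr f E) L)).comp
    (towerIso E L f).inv.homeomorph.isOpenMap

section AlgClosed

variable [IsAlgClosed E]

theorem isIrreducible_towerMap_fibre (x : ↥(FBase.bc f E)) : IsIrreducible (towerMap E L f ⁻¹' {x}) := by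
  have h : IsIrreducible (FBase.bcπ (FBase.bcStr f E) L ⁻¹' {x}) := isIrreducible_fibre L (FBase.bcStr f E) x
  let e := (towerIso E L f).inv.homeomorph
  have he : towerMap E L f ⁻¹' {x} = e.symm '' (FBase.bcπ (FBase.bcStr f E) L ⁻¹' {x}) := by
    rw [Homeomorph.image_symm]
    rfl
  rw [he]
  exact h.image _ e.symm.continuous.continuousOn

theorem nonempty_equiv_connectedComponents :
    Nonempty (_root_.ConnectedComponents ↥(FBase.bc f L) ≃ _root_.ConnectedComponents ↥(FBase.bc f E)) :=
  ⟨(((isOpenMap_towerMap E L f).isQuotientMap (towerMap E L f).continuous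
    (surjective_towerMap E L f)).isCoinducing.connectedComponentsHomeomorph
      fun x => (isIrreducible_towerMap_fibre E L f x).isConnected).toEquiv⟩

theorem nonempty_equiv_irreducibleComponents :
    Nonempty (irreducibleComponents ↥(FBase.bc f L) ≃ irreducibleComponents ↥(FBase.bc f E)) :=
  ⟨(irreducibleComponentsEquivOfIsPreirreducibleFiber _ (towerMap E L f).continuous (isOpenMap_towerMap E L f)
    (fun x => (isIrreducible_towerMap_fibre E L f x).2) (surjective_towerMap E L f)).toEquiv.symm⟩

end AlgClosed

theorem mk_connectedComponents_le {α β : Type u} [TopologicalSpace α] [TopologicalSpace β] {g : α → β}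
    (hc : Continuous g) (hs : Function.Surjective g) :
    Cardinal.mk (_root_.ConnectedComponents β) ≤ Cardinal.mk (_root_.ConnectedComponents α) := by
  refine Cardinal.mk_le_of_surjective (f := hc.connectedComponentsMap) fun c => ?_
  obtain ⟨b, rfl⟩ := _root_.ConnectedComponents.surjective_coe c
  obtain ⟨a, rfl⟩ := hs b
  exact ⟨_root_.ConnectedComponents.mk a, rfl⟩

theorem mk_irreducibleComponents_le {α β : Type u} [TopologicalSpace α] [TopologicalSpace β] {g : α → β}
    (hc : Continuous g) (hs : Function.Surjective g) [QuasiSober β] :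
    Cardinal.mk (irreducibleComponents β) ≤ Cardinal.mk (irreducibleComponents α) := by
  have h : ∀ Z : irreducibleComponents β, ∃ W : irreducibleComponents α, closure (g '' W.1) = Z.1 := by
    intro Z
    obtain ⟨b, hb⟩ := QuasiSober.sober Z.2.1 (isClosed_of_mem_irreducibleComponents Z.1 Z.2)
    obtain ⟨a, rfl⟩ := hs b
    refine ⟨⟨irreducibleComponent a, irreducibleComponent_mem_irreducibleComponents a⟩, ?_⟩
    have hsub : Z.1 ⊆ closure (g '' irreducibleComponent a) := by
      rw [← hb.def]
      exact closure_mono (Set.singleton_subset_iff.2 ⟨a, mem_irreducibleComponent, rfl⟩)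
    exact (Z.2.2 (isIrreducible_irreducibleComponent.image g hc.continuousOn).closure hsub).antisymm hsub
  choose w hw using h
  exact Cardinal.mk_le_of_injective (f := w) fun Z Z' e => Subtype.ext (by rw [← hw Z, ← hw Z', e])

/-- a field receiving two given extensions -/
theorem exists_common_extension (K Ω : Type u) [Field K] [Algebra k K] [Field Ω] [Algebra k Ω] :
    ∃ (L : Type u) (_ : Field L) (_ : Algebra k L) (_ : K →ₐ[k] L) (_ : Ω →ₐ[k] L), IsAlgClosed L := by
  haveI : Nontrivial (K ⊗[k] Ω) :=
    Function.Injective.nontrivial (f := (Algebra.TensorProduct.includeRight : Ω →ₐ[k] K ⊗[k] Ω))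
      (Algebra.TensorProduct.includeRight_injective (algebraMap k K).injective)
  obtain ⟨m, hm⟩ := Ideal.exists_maximal (K ⊗[k] Ω)
  letI := Ideal.Quotient.field m
  let π : K ⊗[k] Ω →ₐ[k] AlgebraicClosure (K ⊗[k] Ω ⧸ m) :=
    (IsScalarTower.toAlgHom k (K ⊗[k] Ω ⧸ m) _).comp (Ideal.Quotient.mkₐ k m)
  exact ⟨_, inferInstance, inferInstance, π.comp Algebra.TensorProduct.includeLeft,
    π.comp Algebra.TensorProduct.includeRight, inferInstance⟩

end Groth.Agent.GeomConnExt
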