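import Groth.Agent.GeomConnExt.Primary
import Groth.Agent.GeomConn.Scheme
import Groth.Agent.FlatMorLib.GeomDescent
import Mathlib.AlgebraicGeometry.Geometrically.Connected
import Groth.Prelude.Def_FDesc

/-!
# Geometric connectedness from a residue field
-/

set_option autoImplicit false
set_option backward.isDefEq.respectTransparency false
set_option backward.isDefEq.respectTransparency.types false

universe u

open CategoryTheory CategoryTheory.Limits AlgebraicGeometry TensorProduct
open Groth.Agent.GeomConn (bcTo)

namespace Groth.Agent.GeomConnExt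

variable {k : Type u} [Field k]

theorem geometricallyConnected_of {X : Scheme.{u}} (f : X ⟶ Spec (CommRingCat.of k))
    (h : ∀ (K : Type u) [Field K] [Algebra k K], ConnectedSpace ↥(bcTo K f)) : GeometricallyConnected f := by
  rw [GeometricallyConnected.eq_geometrically]
  intro K _ y Z fst snd hsq
  obtain ⟨φ, rfl⟩ := Spec.map_surjective y
  letI := φ.hom.toAlgebra
  have : ConnectedSpace ↥(pullback f (Spec.map φ)) := h K
  exact hsq.isoPullback.inv.surjective.connectedSpace hsq.isoPullback.inv.continuous

theorem geometricallyConnected_of_algClosure {X : Scheme.{u}} (f : X ⟶ Spec (CommRingCat.of k))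
    (h : ConnectedSpace ↥(bcTo (AlgebraicClosure k) f)) : GeometricallyConnected f := by
  have hc : IsPullback (pullback.fst f (Spec.map (CommRingCat.ofHom (algebraMap k (AlgebraicClosure k)))))
      (pullback.snd f _) f (Spec.map (CommRingCat.ofHom (algebraMap k (AlgebraicClosure k)))) :=
    IsPullback.of_hasPullback _ _
  haveI : Surjective (Spec.map (CommRingCat.ofHom (algebraMap k (AlgebraicClosure k)))) :=
    ⟨GeomConn.surjective_specMap_field⟩
  have h' : GeometricallyConnected (pullback.snd f (Spec.map (CommRingCat.ofHom (algebraMap k (AlgebraicClosure k))))) :=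
    geometricallyConnected_of _ fun K _ _ => by
      haveI := h
      exact GeomConn.connectedSpace_bcTo_of_isAlgClosed _
  rw [GeometricallyConnected.eq_geometrically] at h' ⊢
  refine FlatMorLib.geometrically_of_isPullback_of_surjective (fun p _ _ h => ?_) hc h'
  have : ConnectedSpace _ := h
  exact p.surjective.connectedSpace p.continuous

/-- connected base, open and closed surjection, preconnected set containing a whole fibre -/
theorem connectedSpace_of_fibre {α β : Type*} [TopologicalSpace α] [TopologicalSpace β] [ConnectedSpace β]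
    (f : α → β) (ho : IsOpenMap f) (hcl : IsClosedMap f) (b : β) (C : Set α) (hC : IsPreconnected C)
    (hne : C.Nonempty) (hb : f ⁻¹' {b} ⊆ C) : ConnectedSpace α := by
  refine { toPreconnectedSpace := preconnectedSpace_iff_clopen.2 fun s hs => ?_, toNonempty := ⟨hne.some⟩ }
  have key : ∀ t : Set α, IsClopen t → t.Nonempty → C ⊆ t := by
    intro t ht htne
    obtain ⟨a, hat, hab⟩ : b ∈ f '' t := by
      rw [IsClopen.eq_univ ⟨hcl t ht.1, ho t ht.2⟩ (htne.image f)]
      exact Set.mem_univ b
    exact hC.subset_isClopen ht ⟨a, hb hab, hat⟩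
  by_contra! h
  exact key sᶜ hs.compl (Set.nonempty_compl.2 h.2) hne.some_mem (key s hs h.1 hne.some_mem)

theorem isClosedMap_fst {X : Scheme.{u}} (f : X ⟶ Spec (CommRingCat.of k)) :
    IsClosedMap (pullback.fst f (Spec.map (CommRingCat.ofHom (algebraMap k (AlgebraicClosure k))))) := by
  haveI : IsIntegralHom (Spec.map (CommRingCat.ofHom (algebraMap k (AlgebraicClosure k)))) := by
    rw [IsIntegralHom.SpecMap_iff]
    exact fun x => Algebra.IsIntegral.isIntegral x
  exact Scheme.Hom.isClosedMap _

/-- a connected scheme with a point with primary residue field is geometrically connected -/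
theorem geometricallyConnected_of_primary {X : Scheme.{u}} [ConnectedSpace X]
    (f : X ⟶ Spec (CommRingCat.of k)) (x : X)
    (hx : FBase.ResidueFieldProp f x (fun K _ _ => separableClosure k K = ⊥)) :
    GeometricallyConnected f := by
  obtain ⟨φ, hφ, hK⟩ := hx
  letI := φ.toAlgebra
  haveI := subsingleton_algClosure k (X.residueField x) hK
  let g := Spec.map (CommRingCat.ofHom (algebraMap k (AlgebraicClosure k)))
  let ι : pullback (Spec.map (CommRingCat.ofHom φ)) g ⟶ pullback f g :=
    pullback.map _ _ _ _ (X.fromSpecResidueField x) (𝟙 _) (𝟙 _) (by simpa using hφ) (by simp)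
  have hr : Set.range ι = pullback.fst f g ⁻¹' {x} := by
    rw [Scheme.Pullback.range_map]
    erw [Scheme.range_fromSpecResidueField]
    simp
  have hsub : (Set.range ι).Subsingleton := by
    let e := (pullbackSpecIso k (X.residueField x) (AlgebraicClosure k)) ≪≫
      Scheme.Spec.mapIso ((Algebra.TensorProduct.comm k (AlgebraicClosure k) (X.residueField x)).toRingEquiv.toCommRingCatIso).op
    haveI : Subsingleton ↥(pullback (Spec.map (CommRingCat.ofHom φ)) g) := by
      refine ⟨fun a b => e.hom.homeomorph.injective ?_⟩
      exact Subsingleton.elim (α := PrimeSpectrum (AlgebraicClosure k ⊗[k] X.residueField x)) _ _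
    exact Set.subsingleton_of_subset_singleton (a := ι (Classical.choice (by
      obtain ⟨z, hz⟩ : x ∈ Set.range (pullback.fst f g) := by
        rw [Scheme.Pullback.range_fst]
        exact GeomConn.surjective_specMap_field _
      obtain ⟨w, -⟩ : z ∈ Set.range ι := hr ▸ hz
      exact ⟨w⟩))) (by rintro _ ⟨w, rfl⟩; exact congrArg ι (Subsingleton.elim _ _))
  refine geometricallyConnected_of_algClosure f ?_
  refine connectedSpace_of_fibre _ (GeomConn.isOpenMap_fst f) (isClosedMap_fst f) x (Set.range ι)
    hsub.isPreconnected ?_ hr.ge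
  obtain ⟨z, hz⟩ : x ∈ Set.range (pullback.fst f g) := by
    rw [Scheme.Pullback.range_fst]
    exact GeomConn.surjective_specMap_field _
  exact ⟨z, hr.ge hz⟩

theorem geometricallyConnected_of_source {X Y : Scheme.{u}} (g : Y ⟶ X) (f : X ⟶ Spec (CommRingCat.of k))
    [Nonempty Y] [ConnectedSpace X] [GeometricallyConnected (g ≫ f)] : GeometricallyConnected f := by
  obtain ⟨y⟩ := ‹Nonempty Y›
  let a := Spec.map (CommRingCat.ofHom (algebraMap k (AlgebraicClosure k)))
  let ι : pullback (g ≫ f) a ⟶ pullback f a := pullback.map _ _ _ _ g (𝟙 _) (𝟙 _) (by simp) (by simp)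
  haveI : ConnectedSpace ↥(pullback (g ≫ f) a) :=
    GeometricallyConnected.geometrically_connectedSpace (f := g ≫ f) _ _ _ (IsPullback.of_hasPullback _ a)
  have hr : Set.range ι = pullback.fst f a ⁻¹' Set.range g := by
    rw [Scheme.Pullback.range_map]
    simp
  refine geometricallyConnected_of_algClosure f ?_
  exact connectedSpace_of_fibre _ (GeomConn.isOpenMap_fst f) (isClosedMap_fst f) (g y) (Set.range ι)
    (isPreconnected_range ι.continuous) (Set.range_nonempty _) (fun z hz => hr.ge ⟨y, hz.symm⟩)

theorem exists_residueFieldProp_of_specHom {X : Scheme.{u}} (f : X ⟶ Spec (CommRingCat.of k)) (L : Type u)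
    [Field L] [Algebra k L] (hL : separableClosure k L = ⊥) (t : Spec (CommRingCat.of L) ⟶ X)
    (ht : t ≫ f = Spec.map (CommRingCat.ofHom (algebraMap k L))) :
    ∃ x : X, FBase.ResidueFieldProp f x (fun K _ _ => separableClosure k K = ⊥) := by
  obtain ⟨⟨y, ψ⟩, rfl⟩ := (Scheme.SpecToEquivOfField L X).symm.surjective t
  obtain ⟨φ, hφ⟩ := Spec.map_surjective (X.fromSpecResidueField y ≫ f)
  change (Spec.map ψ ≫ X.fromSpecResidueField y) ≫ f = _ at ht
  rw [Category.assoc, ← hφ, ← Spec.map_comp] at ht
  have e := Spec.map_injective ht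
  refine ⟨y, φ.hom, hφ, ?_⟩
  letI := φ.hom.toAlgebra
  let i : X.residueField y →ₐ[k] L := { ψ.hom with commutes' := fun c => congr($(e).hom c) }
  refine bot_unique fun z hz => ?_
  rw [← separableClosure.comap_eq_of_algHom i, hL] at hz
  obtain ⟨c, hc⟩ := IntermediateField.mem_bot.1 hz
  exact IntermediateField.mem_bot.2 ⟨c, i.toRingHom.injective ((i.commutes c).trans hc)⟩

theorem geometricallyConnected_descend (K : Type u) [Field K] [Algebra k K] {X : Scheme.{u}}
    (f : X ⟶ Spec (CommRingCat.of k))
    (h' : GeometricallyConnected (pullback.snd f (Spec.map (CommRingCat.ofHom (algebraMap k K))))) :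
    GeometricallyConnected f := by
  haveI : Surjective (Spec.map (CommRingCat.ofHom (algebraMap k K))) :=
    ⟨GeomConn.surjective_specMap_field⟩
  rw [GeometricallyConnected.eq_geometrically] at h' ⊢
  refine FlatMorLib.geometrically_of_isPullback_of_surjective (fun p _ _ h => ?_) (IsPullback.of_hasPullback _ _) h'
  have : ConnectedSpace _ := h
  exact p.surjective.connectedSpace p.continuous

end Groth.Agent.GeomConnExt
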