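import Groth.Agent.GeomConnExt.FibreEmb
import Groth.Agent.GeomConnExt.Components

/-!
# Fibres of `X_E → X` as spectra of `κ(x) ⊗ E`
-/

set_option autoImplicit false
set_option backward.isDefEq.respectTransparency false
set_option backward.isDefEq.respectTransparency.types false

universe u

open CategoryTheory CategoryTheory.Limits AlgebraicGeometry TensorProduct

namespace Groth.Agent.GeomConnExt

variable {k : Type u} [Field k] {X : Scheme.{u}} (f : X ⟶ Spec (CommRingCat.of k)) (x : X)
  [Algebra k (X.residueField x)]
  (hφ : Spec.map (CommRingCat.ofHom (algebraMap k (X.residueField x))) = X.fromSpecResidueField x ≫ f)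
  (E : Type u) [Field E] [Algebra k E]

/-- `Spec (κ(x) ⊗ E) → X_E` -/
noncomputable def fibreParam : Spec (CommRingCat.of (X.residueField x ⊗[k] E)) ⟶ FBase.bc f E :=
  (pullbackSpecIso k (X.residueField x) E).inv ≫
    pullback.map _ _ _ _ (X.fromSpecResidueField x) (𝟙 _) (𝟙 _) (by simpa using hφ) (by simp)

theorem range_fibreParam : Set.range (fibreParam f x hφ E) = FBase.bcπ f E ⁻¹' {x} := by
  rw [fibreParam, Scheme.Hom.comp_base, TopCat.coe_comp, Set.range_comp,
    Set.range_eq_univ.2 (pullbackSpecIso k (X.residueField x) E).inv.surjective, Set.image_univ]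
  erw [Scheme.Pullback.range_map, Scheme.range_fromSpecResidueField]
  simp [FBase.bcπ]
  rfl

theorem injective_fibreParam : Function.Injective (fibreParam f x hφ E) := by
  haveI : IsPreimmersion (pullback.map (Spec.map (CommRingCat.ofHom (algebraMap k (X.residueField x))))
      (Spec.map (CommRingCat.ofHom (algebraMap k E))) f (Spec.map (CommRingCat.ofHom (algebraMap k E)))
      (X.fromSpecResidueField x) (𝟙 _) (𝟙 _) (by simpa using hφ) (by simp)) :=
    MorphismProperty.pullbackMap (P := @IsPreimmersion) inferInstance inferInstance hφ (Category.id_comp _).symm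
  have h1 : Function.Injective (pullback.map (Spec.map (CommRingCat.ofHom (algebraMap k (X.residueField x))))
      (Spec.map (CommRingCat.ofHom (algebraMap k E))) f (Spec.map (CommRingCat.ofHom (algebraMap k E)))
      (X.fromSpecResidueField x) (𝟙 _) (𝟙 _) (by simpa using hφ) (by simp)) := Scheme.Hom.injective _
  exact h1.comp (pullbackSpecIso k (X.residueField x) E).inv.homeomorph.injective

/-- points of the fibre -/
noncomputable def fibreEquiv : PrimeSpectrum (X.residueField x ⊗[k] E) ≃ ↥(FBase.bcπ f E ⁻¹' {x}) :=
  (Equiv.ofInjective _ (injective_fibreParam f x hφ E)).trans (Equiv.setCongr (range_fibreParam f x hφ E))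

include hφ in
theorem natCard_fibre [FiniteDimensional k (separableClosure k (X.residueField x))] [Algebra.IsAlgebraic k E]
    (hsplit : ∀ a : separableClosure k (X.residueField x),
      ((minpoly k a).map (algebraMap k E)).Splits) :
    (FBase.bcπ f E ⁻¹' {x}).Finite ∧
      (FBase.bcπ f E ⁻¹' {x}).ncard = Module.finrank k (separableClosure k (X.residueField x)) := by
  obtain ⟨h1, h2⟩ := finite_and_natCard_primes k (X.residueField x) E hsplit
  exact ⟨Set.finite_coe_iff.1 (Finite.of_equiv _ (fibreEquiv f x hφ E)),
    by rw [← Nat.card_coe_set_eq, ← Nat.card_congr (fibreEquiv f x hφ E), h2]⟩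

include hφ in
theorem eq_of_specializes [Algebra.IsAlgebraic k E]
    (hsplit : ∀ a : separableClosure k (X.residueField x), ((minpoly k a).map (algebraMap k E)).Splits)
    {z z' : ↥(FBase.bc f E)} (hz : FBase.bcπ f E z = x) (hz' : FBase.bcπ f E z' = x) (h : z ⤳ z') : z = z' := by
  obtain ⟨P, rfl⟩ := (range_fibreParam f x hφ E).ge hz
  obtain ⟨P', rfl⟩ := (range_fibreParam f x hφ E).ge hz'
  haveI : IsPreimmersion (pullback.map (Spec.map (CommRingCat.ofHom (algebraMap k (X.residueField x))))
      (Spec.map (CommRingCat.ofHom (algebraMap k E))) f (Spec.map (CommRingCat.ofHom (algebraMap k E)))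
      (X.fromSpecResidueField x) (𝟙 _) (𝟙 _) (by simpa using hφ) (by simp)) :=
    MorphismProperty.pullbackMap (P := @IsPreimmersion) inferInstance inferInstance hφ (Category.id_comp _).symm
  haveI : IsPreimmersion (fibreParam f x hφ E) := by rw [fibreParam]; infer_instance
  rw [(fibreParam f x hφ E).isEmbedding.isInducing.specializes_iff] at h
  obtain ⟨σ, hσ⟩ := exists_induces k (X.residueField x) E hsplit P
  obtain ⟨R, -, hR⟩ := existsUnique_prime k (X.residueField x) E σ
  rw [hR P hσ, hR P' (fun a => ((PrimeSpectrum.le_iff_specializes P P').2 h) (hσ a))]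

variable (L : Type u) [Field L] [Algebra k L] [Algebra E L] [IsScalarTower k E L]

theorem fibreParam_towerMap :
    fibreParam f x hφ L ≫ towerMap E L f =
      Spec.map (CommRingCat.ofHom (Algebra.TensorProduct.map (AlgHom.id k (X.residueField x))
        (IsScalarTower.toAlgHom k E L)).toRingHom) ≫ fibreParam f x hφ E := by
  apply pullback.hom_ext
  · change fibreParam f x hφ L ≫ (towerMap E L f ≫ FBase.bcπ f E) = _
    rw [towerMap_fst]
    simp [fibreParam, FBase.bcπ]
    rw [← Spec.map_comp_assoc]
    congr 2
    ext a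
    simp
  · change fibreParam f x hφ L ≫ towerMap E L f ≫ FBase.bcStr f E = _
    have hb : towerMap E L f ≫ FBase.bcStr f E =
        FBase.bcStr f L ≫ Spec.map (CommRingCat.ofHom (algebraMap E L)) := by
      rw [towerMap, Category.assoc, Iso.inv_comp_eq]
      simp [towerIso, FBase.bcStr, FBase.bcπ, FBase.bc, pullback.condition]
    rw [hb]
    simp [fibreParam, FBase.bcStr, ← Spec.map_comp]
    congr 1

include hφ in
theorem towerMap_fibre_subsingleton [Algebra.IsAlgebraic k E] [Algebra.IsAlgebraic k L]
    (hsplit : ∀ a : separableClosure k (X.residueField x), ((minpoly k a).map (algebraMap k E)).Splits)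
    (p : ↥(FBase.bc f E)) (hp : FBase.bcπ f E p = x) : (towerMap E L f ⁻¹' {p}).Subsingleton := by
  intro z hz z' hz'
  have hx : ∀ z, towerMap E L f z = p → z ∈ Set.range (fibreParam f x hφ L) := fun z hz => by
    rw [range_fibreParam]
    show FBase.bcπ f L z = x
    rw [← towerMap_fst E L f, Scheme.Hom.comp_apply, hz, hp]
  obtain ⟨P, rfl⟩ := hx z hz
  obtain ⟨P', rfl⟩ := hx z' hz'
  rw [Set.mem_preimage, Set.mem_singleton_iff, ← Scheme.Hom.comp_apply, fibreParam_towerMap,
    Scheme.Hom.comp_apply] at hz hz'
  let m := (Algebra.TensorProduct.map (AlgHom.id k (X.residueField x)) (IsScalarTower.toAlgHom k E L)).toRingHom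
  have hm : PrimeSpectrum.comap m P = PrimeSpectrum.comap m P' :=
    injective_fibreParam f x hφ E (hz.trans hz'.symm)
  obtain ⟨σ, hσ⟩ := exists_induces k (X.residueField x) E hsplit (PrimeSpectrum.comap m P)
  have key : ∀ Q : PrimeSpectrum (X.residueField x ⊗[k] L),
      PrimeSpectrum.comap m Q = PrimeSpectrum.comap m P →
        Induces k (X.residueField x) L Q ((IsScalarTower.toAlgHom k E L).comp σ) := fun Q hQ a => by
    have := hσ a
    rw [← hQ, PrimeSpectrum.comap_asIdeal, Ideal.mem_comap] at this
    simpa [m] using this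
  obtain ⟨R, -, hR⟩ := existsUnique_prime k (X.residueField x) L ((IsScalarTower.toAlgHom k E L).comp σ)
  rw [hR P (key P rfl), hR P' (key P' hm.symm)]

end Groth.Agent.GeomConnExt
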