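import Groth.Agent.GeomConnExt.Primary
import Mathlib.RingTheory.Spectrum.Prime.Topology

/-!
# The points of `Spec (κ ⊗ E)` and embeddings of the separable closure
-/

set_option autoImplicit false

universe u

open TensorProduct Polynomial

namespace Groth.Agent.GeomConnExt

theorem subsingleton_of_algebraic (k κ : Type u) [Field k] [Field κ] [Algebra k κ]
    (hκ : separableClosure k κ = ⊥) (E : Type u) [Field E] [Algebra k E] [Algebra.IsAlgebraic k E] :
    Subsingleton (PrimeSpectrum (κ ⊗[k] E)) := by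
  let ψ : E →ₐ[k] AlgebraicClosure k := IsAlgClosed.lift
  let φ : κ ⊗[k] E →ₐ[k] AlgebraicClosure k ⊗[k] κ :=
    ((Algebra.TensorProduct.comm k κ (AlgebraicClosure k)).toAlgHom).comp (Algebra.TensorProduct.map (AlgHom.id k κ) ψ)
  haveI := subsingleton_algClosure k κ hκ
  suffices h : ∀ P : PrimeSpectrum (κ ⊗[k] E), ∃ Q, PrimeSpectrum.comap φ.toRingHom Q = P by
    refine ⟨fun P P' => ?_⟩
    obtain ⟨Q, rfl⟩ := h P
    obtain ⟨Q', rfl⟩ := h P'
    rw [Subsingleton.elim Q Q']
  intro P
  let F := AlgebraicClosure P.asIdeal.ResidueField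
  let π : κ ⊗[k] E →ₐ[k] F :=
    (IsScalarTower.toAlgHom k P.asIdeal.ResidueField F).comp (IsScalarTower.toAlgHom k (κ ⊗[k] E) _)
  let iE : E →ₐ[k] F := π.comp Algebra.TensorProduct.includeRight
  letI := ψ.toRingHom.toAlgebra
  haveI : IsScalarTower k E (AlgebraicClosure k) := .of_algebraMap_eq fun c => (ψ.commutes c).symm
  letI : Algebra E F := iE.toRingHom.toAlgebra
  haveI : IsScalarTower k E F := .of_algebraMap_eq fun c => (iE.commutes c).symm
  haveI : Algebra.IsAlgebraic E (AlgebraicClosure k) := Algebra.IsAlgebraic.tower_top (K := k) E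
  let j : AlgebraicClosure k →ₐ[E] F := IsAlgClosed.lift
  let θ : AlgebraicClosure k ⊗[k] κ →ₐ[k] F :=
    Algebra.TensorProduct.lift (j.restrictScalars k) (π.comp Algebra.TensorProduct.includeLeft) fun _ _ => Commute.all _ _
  refine ⟨⟨RingHom.ker θ.toRingHom, RingHom.ker_isPrime _⟩, PrimeSpectrum.ext ?_⟩
  have hθ : θ.comp φ = π := by
    refine Algebra.TensorProduct.ext' fun a e => ?_
    have hj : j (ψ e) = π (1 ⊗ₜ e) := j.commutes e
    simp [θ, φ, hj, ← map_mul]
  ext z
  simp only [PrimeSpectrum.comap_asIdeal, Ideal.mem_comap, RingHom.mem_ker]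
  show (θ.comp φ) z = 0 ↔ _
  rw [hθ]
  exact (map_eq_zero_iff _ (algebraMap P.asIdeal.ResidueField F).injective).trans
    Ideal.algebraMap_residueField_eq_zero

variable (k κ E : Type u) [Field k] [Field κ] [Algebra k κ] [Field E] [Algebra k E]

/-- the prime `P` of `κ ⊗ E` induces the embedding `σ` -/
def Induces (P : PrimeSpectrum (κ ⊗[k] E)) (σ : separableClosure k κ →ₐ[k] E) : Prop :=
  ∀ a : separableClosure k κ, ((a : κ) ⊗ₜ[k] (1 : E)) - (1 : κ) ⊗ₜ[k] σ a ∈ P.asIdeal

theorem induces_unique {P : PrimeSpectrum (κ ⊗[k] E)} {σ σ' : separableClosure k κ →ₐ[k] E}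
    (h : Induces k κ E P σ) (h' : Induces k κ E P σ') : σ = σ' := by
  refine AlgHom.ext fun a => by_contra fun hne => P.2.ne_top ?_
  have hm : (1 : κ) ⊗ₜ[k] (σ a - σ' a) ∈ P.asIdeal := by
    have := sub_mem (h' a) (h a)
    rwa [sub_sub_sub_cancel_left, ← TensorProduct.tmul_sub] at this
  refine Ideal.eq_top_of_isUnit_mem _ hm ?_
  exact (Ne.isUnit (sub_ne_zero.2 hne)).map (Algebra.TensorProduct.includeRight : E →ₐ[k] κ ⊗[k] E)

theorem exists_induces (hsplit : ∀ a : separableClosure k κ, ((minpoly k a).map (algebraMap k E)).Splits)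
    (P : PrimeSpectrum (κ ⊗[k] E)) : ∃ σ, Induces k κ E P σ := by
  let π : κ ⊗[k] E →ₐ[k] P.asIdeal.ResidueField := IsScalarTower.toAlgHom k _ _
  let i : separableClosure k κ →ₐ[k] P.asIdeal.ResidueField :=
    (π.comp Algebra.TensorProduct.includeLeft).comp (separableClosure k κ).val
  let j : E →ₐ[k] P.asIdeal.ResidueField := π.comp Algebra.TensorProduct.includeRight
  have hr : ∀ a, i a ∈ j.range := fun a => by
    refine (hsplit a).mem_range_of_isRoot (i := j.toRingHom) ?_ ?_
    · exact Polynomial.map_ne_zero (minpoly.ne_zero (Algebra.IsIntegral.isIntegral a))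
    · rw [Polynomial.map_map, show j.toRingHom.comp (algebraMap k E) = algebraMap k _ from j.comp_algebraMap, Polynomial.IsRoot, Polynomial.eval_map_algebraMap,
        Polynomial.aeval_algHom_apply, minpoly.aeval, map_zero]
  let σ : separableClosure k κ →ₐ[k] E :=
    ((AlgEquiv.ofInjective j j.toRingHom.injective).symm : j.range →ₐ[k] E).comp (i.codRestrict j.range hr)
  refine ⟨σ, fun a => ?_⟩
  have h : j (σ a) = i a := congrArg Subtype.val ((AlgEquiv.ofInjective j j.toRingHom.injective).apply_symm_apply _)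
  rw [← Ideal.algebraMap_residueField_eq_zero, map_sub, sub_eq_zero]
  exact h.symm

theorem existsUnique_prime_aux (L : Type u) [Field L] [Algebra k L] [Algebra L κ] [IsScalarTower k L κ]
    [Algebra L E] [IsScalarTower k L E] [Subsingleton (PrimeSpectrum (κ ⊗[L] E))] :
    ∃! P : PrimeSpectrum (κ ⊗[k] E),
      ∀ a : L, algebraMap L κ a ⊗ₜ[k] (1 : E) - (1 : κ) ⊗ₜ[k] algebraMap L E a ∈ P.asIdeal := by
  let μ : κ ⊗[k] E →ₐ[k] κ ⊗[L] E :=
    Algebra.TensorProduct.lift ((Algebra.TensorProduct.includeLeft : κ →ₐ[L] _).restrictScalars k)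
      ((Algebra.TensorProduct.includeRight : E →ₐ[L] _).restrictScalars k) fun _ _ => Commute.all _ _
  have hμ : ∀ a : L, μ (algebraMap L κ a ⊗ₜ 1 - 1 ⊗ₜ algebraMap L E a) = 0 := fun a => by
    simp only [μ, map_sub, Algebra.TensorProduct.lift_tmul, map_one, mul_one, one_mul, sub_eq_zero]
    exact ((Algebra.TensorProduct.includeLeft : κ →ₐ[L] κ ⊗[L] E).commutes a).trans
      ((Algebra.TensorProduct.includeRight : E →ₐ[L] κ ⊗[L] E).commutes a).symm
  haveI : Nontrivial (κ ⊗[L] E) :=
    Function.Injective.nontrivial (f := (Algebra.TensorProduct.includeRight : E →ₐ[L] κ ⊗[L] E))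
      (Algebra.TensorProduct.includeRight_injective (algebraMap (L) κ).injective)
  obtain ⟨Q⟩ : Nonempty (PrimeSpectrum (κ ⊗[L] E)) := inferInstance
  refine ⟨PrimeSpectrum.comap μ.toRingHom Q, fun a => ?_, fun P hP => ?_⟩
  · show μ _ ∈ Q.asIdeal
    rw [hμ]
    exact zero_mem _
  let F := P.asIdeal.ResidueField
  let π : κ ⊗[k] E →ₐ[k] F := IsScalarTower.toAlgHom k _ _
  let iκ : κ →ₐ[L] F :=
    (IsScalarTower.toAlgHom L (κ ⊗[k] E) F).comp Algebra.TensorProduct.includeLeft
  let iE : E →ₐ[L] F :=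
    { (π.comp Algebra.TensorProduct.includeRight).toRingHom with
      commutes' := fun a => by
        have := hP a
        rw [← Ideal.algebraMap_residueField_eq_zero, map_sub, sub_eq_zero] at this
        rw [IsScalarTower.algebraMap_apply L (κ ⊗[k] E) F]
        exact this.symm }
  let θ := Algebra.TensorProduct.lift iκ iE fun _ _ => Commute.all _ _
  have hθ : θ.toRingHom.comp μ.toRingHom = π.toRingHom := by
    refine RingHom.ext fun z => ?_
    induction z using TensorProduct.induction_on with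
    | zero => rw [map_zero, map_zero]
    | add a b ha hb => rw [map_add, map_add, ha, hb]
    | tmul x e =>
      have e1 : θ (μ (x ⊗ₜ e)) = π (x ⊗ₜ 1) * π (1 ⊗ₜ e) := by
        simp [θ, μ, iκ, iE, π]
      refine e1.trans ?_
      rw [← map_mul, Algebra.TensorProduct.tmul_mul_tmul, mul_one, one_mul]
      rfl
  have : Q = ⟨RingHom.ker θ.toRingHom, RingHom.ker_isPrime _⟩ := Subsingleton.elim _ _
  subst this
  refine PrimeSpectrum.ext ?_
  ext z
  simp only [PrimeSpectrum.comap_asIdeal, Ideal.mem_comap, RingHom.mem_ker]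
  show _ ↔ (θ.toRingHom.comp μ.toRingHom) z = 0
  rw [hθ]
  exact Ideal.algebraMap_residueField_eq_zero.symm

theorem existsUnique_prime [Algebra.IsAlgebraic k E] (σ : separableClosure k κ →ₐ[k] E) :
    ∃! P, Induces k κ E P σ := by
  letI : Algebra (separableClosure k κ) E := σ.toRingHom.toAlgebra
  haveI : IsScalarTower k (separableClosure k κ) E := .of_algebraMap_eq fun c => (σ.commutes c).symm
  haveI : Algebra.IsAlgebraic (separableClosure k κ) E := Algebra.IsAlgebraic.tower_top (K := k) _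
  haveI := subsingleton_of_algebraic (separableClosure k κ) κ (separableClosure.separableClosure_eq_bot k κ) E
  exact existsUnique_prime_aux k κ E (separableClosure k κ)

theorem finite_and_natCard_primes [FiniteDimensional k (separableClosure k κ)] [Algebra.IsAlgebraic k E]
    (hsplit : ∀ a : separableClosure k κ, ((minpoly k a).map (algebraMap k E)).Splits) :
    Finite (PrimeSpectrum (κ ⊗[k] E)) ∧
      Nat.card (PrimeSpectrum (κ ⊗[k] E)) = Module.finrank k (separableClosure k κ) := by
  choose s hs using exists_induces k κ E hsplit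
  choose p hp hp' using existsUnique_prime k κ E
  let e : PrimeSpectrum (κ ⊗[k] E) ≃ (separableClosure k κ →ₐ[k] E) :=
    ⟨s, p, fun P => (hp' (s P) P (hs P)).symm, fun σ => induces_unique k κ E (hs (p σ)) (hp σ)⟩
  refine ⟨Finite.of_equiv _ e.symm, ?_⟩
  rw [Nat.card_congr e, AlgHom.natCard_of_splits k _ E hsplit]

end Groth.Agent.GeomConnExt
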