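import Groth.Agent.GeomConn.Scheme
import Mathlib.AlgebraicGeometry.Geometrically.Irreducible
import Groth.Prelude.Def_FDesc

/-!
# Irreducibility after base change from an algebraically closed field
-/

set_option autoImplicit false
set_option backward.isDefEq.respectTransparency false
set_option backward.isDefEq.respectTransparency.types false

universe u

open CategoryTheory CategoryTheory.Limits AlgebraicGeometry TensorProduct

namespace Groth.Agent.GeomConnExt

variable {k : Type u} [Field k] [IsAlgClosed k] (K : Type u) [Field K] [Algebra k K]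
  {X : Scheme.{u}} (f : X ⟶ Spec (CommRingCat.of k))

theorem isIrreducible_fibre (x : X) :
    IsIrreducible (pullback.fst f (Spec.map (CommRingCat.ofHom (algebraMap k K))) ⁻¹' {x}) := by
  obtain ⟨φ, hφ⟩ := Spec.map_surjective (X.fromSpecResidueField x ≫ f)
  let : Algebra k (X.residueField x) := φ.hom.toAlgebra
  let g := Spec.map (CommRingCat.ofHom (algebraMap k K))
  let ι : pullback (Spec.map φ) g ⟶ pullback f g :=
    pullback.map _ _ _ _ (X.fromSpecResidueField x) (𝟙 _) (𝟙 _) (by simp [hφ]) (by simp)
  have hr : Set.range ι = pullback.fst f g ⁻¹' {x} := by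
    rw [Scheme.Pullback.range_map, Scheme.range_fromSpecResidueField]
    simp
  rw [show (pullback.fst f (Spec.map (CommRingCat.ofHom (algebraMap k K))) ⁻¹' {x}) = Set.range ι from hr.symm]
  have : IsDomain (TensorProduct k (X.residueField x) K) := GeomConn.isDomain_tensorProduct _ _
  let e := (pullbackSpecIso k (X.residueField x) K)
  have : IrreducibleSpace ↥(pullback (Spec.map φ) g) := by
    have h : IrreducibleSpace (PrimeSpectrum (TensorProduct k (X.residueField x) K)) := inferInstance
    exact Function.Surjective.irreducibleSpace e.inv.continuous e.inv.surjective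
  rw [← Set.image_univ]
  exact (IrreducibleSpace.isIrreducible_univ _).image _ ι.continuous.continuousOn

theorem isIrreducible_preimage {Z : Set X} (hZ : IsIrreducible Z) :
    IsIrreducible (pullback.fst f (Spec.map (CommRingCat.ofHom (algebraMap k K))) ⁻¹' Z) := by
  refine hZ.preimage_of_isPreirreducible_fiber _ (GeomConn.isOpenMap_fst f)
    (fun x => (isIrreducible_fibre K f x).2) ?_
  obtain ⟨x, hx⟩ := hZ.1
  obtain ⟨y, hy⟩ := (isIrreducible_fibre K f x).1
  exact ⟨x, hx, y, hy⟩

end Groth.Agent.GeomConnExt
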