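import Groth.Agent.GeomIrred.Basic
import Mathlib.FieldTheory.PrimitiveElement
import Mathlib.FieldTheory.SeparableClosure

/-!
# Primary field extensions
-/

set_option autoImplicit false

universe u

open TensorProduct Polynomial

namespace Groth.Agent.GeomConnExt

variable (k K : Type u) [Field k] [Field K] [Algebra k K]

/-- irreducible separable polynomials stay irreducible over a primary extension -/
theorem irreducible_map (hK : separableClosure k K = ⊥) {p : k[X]} (hp : Irreducible p) (hm : p.Monic)
    (hs : p.Separable) : Irreducible (p.map (algebraMap k K)) := by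
  have hpK : (p.map (algebraMap k K)).Monic := hm.map _
  refine hpK.irreducible_iff_natDegree.2 ⟨fun h => hp.ne_one ?_, fun f g hf hg hfg => ?_⟩
  · apply Polynomial.map_injective _ (algebraMap k K).injective
    rw [h, Polynomial.map_one]
  have hfp : f ∣ p.map (algebraMap k K) := ⟨g, hfg.symm⟩
  let Ω := AlgebraicClosure K
  -- roots of `f` are separable over `k`
  have hmem : f.map (algebraMap K Ω) ∈ Polynomial.lifts (separableClosure k Ω).val.toRingHom := by
    rw [(IsAlgClosed.splits (f.map (algebraMap K Ω))).eq_prod_roots_of_monic (hf.map _)]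
    refine Subsemiring.multiset_prod_mem _ _ fun q hq => ?_
    obtain ⟨r, hr, rfl⟩ := Multiset.mem_map.1 hq
    have hrp : aeval r p = 0 := by
      obtain ⟨c, hc⟩ := Polynomial.map_dvd (algebraMap K Ω) hfp
      have h0 : (f.map (algebraMap K Ω)).eval r = 0 := (Polynomial.mem_roots ((hf.map _).ne_zero)).1 hr
      rw [Polynomial.aeval_def, ← Polynomial.eval_map, IsScalarTower.algebraMap_eq k K Ω, ← Polynomial.map_map,
        hc, Polynomial.eval_mul, h0, zero_mul]
    have hr' : r ∈ separableClosure k Ω := by
      rw [mem_separableClosure_iff]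
      exact Polynomial.Separable.of_dvd hs (minpoly.dvd k r hrp)
    exact (Polynomial.lifts_iff_liftsRing _ _).2 (sub_mem
      ((Polynomial.lifts_iff_liftsRing _ _).1 (X_mem_lifts _))
      ((Polynomial.lifts_iff_liftsRing _ _).1 (C_mem_lifts _ (⟨r, hr'⟩ : separableClosure k Ω))))
  have hcoeff : ∀ n, f.coeff n ∈ Set.range (algebraMap k K) := fun n => by
    obtain ⟨s, hs'⟩ := (Polynomial.lifts_iff_coeff_lifts _).1 hmem n
    have hsep : IsSeparable k (f.coeff n) := by
      refine IsSeparable.of_algHom (IsScalarTower.toAlgHom k K Ω) ?_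
      rw [IsScalarTower.coe_toAlgHom', ← Polynomial.coeff_map, ← hs']
      exact mem_separableClosure_iff.1 s.2
    have := mem_separableClosure_iff.2 hsep
    rw [hK] at this
    exact this
  obtain ⟨f0, rfl⟩ : f ∈ Polynomial.lifts (algebraMap k K) := (Polynomial.lifts_iff_coeff_lifts _).2 hcoeff
  have hd : f0 ∣ p := (Polynomial.map_dvd_map' (algebraMap k K)).1 hfp
  obtain ⟨g0, hg0⟩ := hd
  rcases hp.isUnit_or_isUnit hg0 with h | h
  · exact Or.inl (by rw [coe_mapRingHom, natDegree_map, natDegree_eq_zero_of_isUnit h])
  · refine Or.inr ?_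
    have hne : f0.map (algebraMap k K) ≠ 0 := hf.ne_zero
    have e : g0.map (algebraMap k K) = g := by
      apply mul_left_cancel₀ hne
      rw [← Polynomial.map_mul, ← hg0]
      exact hfg.symm
    rw [← e, natDegree_map, natDegree_eq_zero_of_isUnit h]

variable (k' : Type u) [Field k'] [Algebra k k']

theorem isDomain_tensor (hK : separableClosure k K = ⊥) [Module.Finite k k'] [Algebra.IsSeparable k k'] :
    IsDomain (k' ⊗[k] K) := by
  obtain ⟨α, hα⟩ := Field.exists_primitive_element k k'
  let Ω := AlgebraicClosure K
  let σ : k' →ₐ[k] Ω := IsAlgClosed.lift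
  let μ : K ⊗[k] k' →ₐ[K] Ω := Algebra.TensorProduct.lift (Algebra.ofId K Ω) σ fun _ _ => Commute.all _ _
  have hi : IsIntegral k α := Algebra.IsIntegral.isIntegral α
  have hmin : minpoly K (σ α) = (minpoly k α).map (algebraMap k K) := by
    refine (minpoly.eq_of_irreducible_of_monic (irreducible_map k K hK (minpoly.irreducible hi)
      (minpoly.monic hi) (Algebra.IsSeparable.isSeparable k α)) ?_ ((minpoly.monic hi).map _)).symm
    rw [Polynomial.aeval_map_algebraMap, Polynomial.aeval_algHom_apply, minpoly.aeval, map_zero]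
  have hdeg : Module.finrank K (IntermediateField.adjoin K {σ α}) = Module.finrank K (K ⊗[k] k') := by
    rw [IntermediateField.adjoin.finrank (Algebra.IsIntegral.isIntegral _), hmin, natDegree_map,
      Module.finrank_baseChange, ← IntermediateField.finrank_top' (F := k) (E := k'), ← hα,
      IntermediateField.adjoin.finrank hi]
  have hle : (IntermediateField.adjoin K {σ α}).toSubalgebra.toSubmodule ≤ LinearMap.range μ.toLinearMap := by
    rw [IntermediateField.adjoin_simple_toSubalgebra_of_isAlgebraic (Algebra.IsIntegral.isIntegral (R := K) (σ α)).isAlgebraic]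
    intro x hx
    have : x ∈ μ.range := (Algebra.adjoin_le (Set.singleton_subset_iff.2 ⟨1 ⊗ₜ α, by simp [μ]⟩) :
      Algebra.adjoin K {σ α} ≤ μ.range) hx
    exact this
  have hinj : Function.Injective μ := by
    have h1 := LinearMap.finrank_range_add_finrank_ker μ.toLinearMap
    have h2 := Submodule.finrank_mono hle
    have h3 : Module.finrank K (LinearMap.ker μ.toLinearMap) = 0 := by
      have : Module.finrank K ↥((IntermediateField.adjoin K {σ α}).toSubalgebra.toSubmodule) =
        Module.finrank K (IntermediateField.adjoin K {σ α}) := rfl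
      omega
    exact LinearMap.ker_eq_bot.1 (Submodule.finrank_eq_zero.1 h3)
  have := hinj.isDomain μ
  exact (Algebra.TensorProduct.comm k k' K).toMulEquiv.isDomain

/-- `k̄ ⊗ K` has one prime for a primary extension -/
theorem subsingleton_algClosure (hK : separableClosure k K = ⊥) :
    Subsingleton (PrimeSpectrum (AlgebraicClosure k ⊗[k] K)) := by
  have h := GeomIrred.algClosure_of_sepClosure (k := k) (R := K) (GeomIrred.sepClosure_of_finite fun k' _ _ _ _ => by
    haveI := isDomain_tensor k K k' hK
    infer_instance)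
  haveI : Algebra.IsIntegral K (K ⊗[k] AlgebraicClosure k) := inferInstance
  rw [PrimeSpectrum.irreducibleSpace_iff_isPrime_nilradical] at h
  have hmax : ∀ P : PrimeSpectrum (AlgebraicClosure k ⊗[k] K), P.asIdeal.IsMaximal := fun P => by
    let e := (Algebra.TensorProduct.comm k K (AlgebraicClosure k)).toRingEquiv
    haveI : (P.asIdeal.comap e.toRingHom).IsPrime := Ideal.comap_isPrime _ _
    have hm : (P.asIdeal.comap e.toRingHom).IsMaximal :=
      Ideal.isMaximal_of_isIntegral_of_isMaximal_comap (R := K) _ (by
        have : (P.asIdeal.comap e.toRingHom).comap (algebraMap K (K ⊗[k] AlgebraicClosure k)) = ⊥ :=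
          (Ideal.eq_bot_or_top _).resolve_right (Ideal.IsPrime.ne_top inferInstance)
        rw [this]
        exact Ideal.bot_isMaximal)
    have hmap := Ideal.map_eq_top_or_isMaximal_of_surjective e.toRingHom e.surjective hm
    rw [Ideal.map_comap_of_surjective e.toRingHom e.surjective] at hmap
    exact hmap.resolve_left P.2.ne_top
  refine ⟨fun P Q => PrimeSpectrum.ext ?_⟩
  have hP := nilradical_le_prime P.asIdeal
  have hQ := nilradical_le_prime Q.asIdeal
  have hN : (nilradical (AlgebraicClosure k ⊗[k] K)).IsMaximal := hmax ⟨_, h⟩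
  exact (hN.eq_of_le P.2.ne_top hP).symm.trans (hN.eq_of_le Q.2.ne_top hQ)

end Groth.Agent.GeomConnExt
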