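import Mathlib.Topology.Connected.Clopen
import Mathlib.Topology.Connected.TotallyDisconnected
import Mathlib.Topology.Irreducible
import Mathlib.Topology.LocallyClosed
import Groth.Agent.GeomConn.Scheme
import Groth.Agent.GeomConnExt.Scheme

/-!
# Connected components and open maps
-/

set_option autoImplicit false

namespace Groth.Agent.GeomConnExt

variable {α β : Type*} [TopologicalSpace α] [TopologicalSpace β]

theorem isConnected_preimage_of_fibres {f : α → β} (hc : Continuous f) (ho : IsOpenMap f) (hs : Function.Surjective f)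
    (hfib : ∀ b, IsPreconnected (f ⁻¹' {b})) {C : Set β} (hC : IsConnected C) : IsConnected (f ⁻¹' C) := by
  have : ConnectedSpace C := isConnected_iff_connectedSpace.1 hC
  refine isConnected_iff_connectedSpace.2 (GeomConn.connectedSpace_of_isOpenMap (C.restrictPreimage f)
    hc.restrictPreimage (ho.restrictPreimage C) (fun a => ?_) fun b => ?_)
  · obtain ⟨y, hy⟩ := hs a
    exact ⟨⟨y, show _ ∈ C from hy ▸ a.2⟩, Subtype.ext hy⟩
  · refine Topology.IsInducing.subtypeVal.isPreconnected_image.1 ?_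
    convert hfib b using 1
    ext y
    constructor
    · rintro ⟨a, ha, rfl⟩
      exact congrArg Subtype.val ha
    · intro hy
      exact ⟨⟨y, show _ ∈ C from (Set.mem_singleton_iff.1 hy) ▸ b.2⟩, Subtype.ext hy, rfl⟩

theorem isConnected_preimage_of_fibre {f : α → β} (ho : IsOpenMap f) (hcl : IsClosedMap f) (hs : Function.Surjective f)
    {C : Set β} (hC : IsConnected C) {b : β} (hb : b ∈ C) (hfib : (f ⁻¹' {b}).Subsingleton) :
    IsConnected (f ⁻¹' C) := by
  have : ConnectedSpace C := isConnected_iff_connectedSpace.1 hC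
  obtain ⟨a, ha⟩ := hs b
  refine isConnected_iff_connectedSpace.2 (connectedSpace_of_fibre (C.restrictPreimage f) (ho.restrictPreimage C)
    (hcl.restrictPreimage C) ⟨b, hb⟩ {⟨a, show _ ∈ C from ha ▸ hb⟩} isPreconnected_singleton
    (Set.singleton_nonempty _) fun z hz => ?_)
  exact Subtype.ext (hfib (congrArg Subtype.val hz) ha)

/-- if every nonempty clopen set meets a finite set, components are clopen and meet it -/
theorem exists_mem_connectedComponent (T : Set α) (hT : T.Finite)
    (h : ∀ A : Set α, IsClopen A → A.Nonempty → (A ∩ T).Nonempty) (z : α) :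
    IsClopen (connectedComponent z) ∧ ∃ t ∈ T, t ∈ connectedComponent z := by
  have hinj : Set.InjOn (fun A : Set α => A ∩ T) {A | IsClopen A} := by
    have key : ∀ A B : Set α, IsClopen A → IsClopen B → A ∩ T = B ∩ T → A ⊆ B := fun A B hA hB e a ha => by
      by_contra hb
      obtain ⟨t, ⟨htA, htB⟩, htT⟩ := h (A \ B) (hA.diff hB) ⟨a, ha, hb⟩
      exact htB (e.le ⟨htA, htT⟩).1
    exact fun A hA B hB e => (key A B hA hB e).antisymm (key B A hB hA e.symm)
  have hfin : {A : Set α | IsClopen A}.Finite := by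
    refine Set.Finite.of_finite_image (hT.finite_subsets.subset ?_) hinj
    rintro _ ⟨A, -, rfl⟩
    exact Set.inter_subset_right
  let Q := ⋂ A ∈ {A : Set α | IsClopen A ∧ z ∈ A}, A
  have hQ : IsClopen Q := (hfin.subset fun A hA => hA.1).isClopen_biInter fun A hA => hA.1
  have hzQ : z ∈ Q := Set.mem_iInter₂.2 fun A hA => hA.2
  have hpre : IsPreconnected Q := by
    rw [isPreconnected_iff_subset_of_disjoint]
    intro u v hu hv huv hd
    have hc : ∀ a b : Set α, IsOpen a → IsOpen b → Q ⊆ a ∪ b → Q ∩ (a ∩ b) = ∅ → IsClopen (Q ∩ a) := by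
      intro a b ha hb hab hd
      refine ⟨?_, hQ.2.inter ha⟩
      have : Q ∩ a = Q ∩ bᶜ := by
        ext y
        refine ⟨fun hy => ⟨hy.1, fun hyb => hd.le ⟨hy.1, hy.2, hyb⟩⟩, fun hy => ⟨hy.1, (hab hy.1).resolve_right hy.2⟩⟩
      rw [this]
      exact hQ.1.inter hb.isClosed_compl
    rcases huv hzQ with hz | hz
    · exact Or.inl fun y hy => (Set.mem_iInter₂.1 hy _ ⟨hc u v hu hv huv hd, hzQ, hz⟩ : y ∈ Q ∩ u).2
    · exact Or.inr fun y hy =>
        (Set.mem_iInter₂.1 hy _ ⟨hc v u hv hu (Set.union_comm u v ▸ huv) (Set.inter_comm u v ▸ hd), hzQ, hz⟩ :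
          y ∈ Q ∩ v).2
  have heq : connectedComponent z = Q :=
    (hQ.connectedComponent_subset hzQ).antisymm (hpre.subset_connectedComponent hzQ)
  rw [heq]
  obtain ⟨t, htQ, htT⟩ := h Q hQ ⟨z, hzQ⟩
  exact ⟨hQ, t, htT, htQ⟩

theorem finite_connectedComponents (T : Set α) (hT : T.Finite)
    (h : ∀ A : Set α, IsClopen A → A.Nonempty → (A ∩ T).Nonempty) :
    Finite (ConnectedComponents α) ∧ Nat.card (ConnectedComponents α) ≤ T.ncard := by
  haveI := hT.to_subtype
  have hs : Function.Surjective fun t : T => ConnectedComponents.mk (t : α) := fun c => by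
    obtain ⟨z, rfl⟩ := ConnectedComponents.surjective_coe c
    obtain ⟨-, t, ht, htz⟩ := exists_mem_connectedComponent T hT h z
    exact ⟨⟨t, ht⟩, ConnectedComponents.coe_eq_coe'.2 htz⟩
  exact ⟨Finite.of_surjective _ hs, (Nat.card_le_card_of_surjective _ hs).trans_eq (Nat.card_coe_set_eq T)⟩

/-- the finite-fibre criterion: `f` open closed, `β` with finitely many components -/
theorem clopen_meets_preimage [Finite (ConnectedComponents β)] {f : α → β} (ho : IsOpenMap f) (hcl : IsClosedMap f)
    (S : Set β) (hS : ∀ b : β, ∃ s ∈ S, s ∈ connectedComponent b) (A : Set α) (hA : IsClopen A) (hne : A.Nonempty) :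
    (A ∩ f ⁻¹' S).Nonempty := by
  obtain ⟨a, ha⟩ := hne
  obtain ⟨s, hs, hsb⟩ := hS (f a)
  have := IsClopen.connectedComponent_subset ⟨hcl A hA.1, ho A hA.2⟩ (Set.mem_image_of_mem f ha) hsb
  obtain ⟨a', ha', rfl⟩ := this
  exact ⟨a', ha', hs⟩

end Groth.Agent.GeomConnExt
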